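import Mathlib
import Cfsg.Agent.Lib.PGroup.Frattini
import Cfsg.Agent.Lib.Core.Nilpotent

/-!
`2`-groups `T` of order at least `2 ^ 14` whose fourth centre has order `16`, with small Frattini
subgroup in the centraliser of the third centre: the basic counting (Rudvalis type).
-/

set_option autoImplicit false

namespace Cfsg.Agent.Lib.H59.Rud

open Subgroup
open scoped commutatorElement

/-- A subgroup `U` of index at most `8`, all of whose squares and commutators lie in `N`, forces
`frattini W ≤ N`, when `frattini W` lies in every subgroup of index at most `16`. -/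
theorem frattini_le_of_small_index {W : Type*} [Group W] [Finite W] (hW : IsPGroup 2 W)
    (hd : ∀ U : Subgroup W, U.index ≤ 16 → frattini W ≤ U) {U N : Subgroup W} (hU : U.index ≤ 8)
    (hsq : ∀ x ∈ U, x ^ 2 ∈ N) (hcomm : ∀ x ∈ U, ∀ y ∈ U, ⁅x, y⁆ ∈ N) : frattini W ≤ N := by
  have : Fact (Nat.Prime 2) := ⟨Nat.prime_two⟩
  intro z hz
  have hzU : z ∈ U := hd U (by omega) hz
  have hmem : (⟨z, hzU⟩ : ↥U) ∈ frattini ↥U := by
    have key : zpowers (⟨z, hzU⟩ : ↥U) ≤ frattini ↥U := by
      refine le_iInf₂ fun M hM => zpowers_le.2 ?_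
      have hi : (M.map U.subtype).index ≤ 16 := by
        have := (Nilp.index_coatom_of_isPGroup (p := 2) (hW.to_subgroup U) hM).2
        rw [index_map_subtype, this]
        omega
      obtain ⟨m, hm, hmz⟩ := hd _ hi hz
      have hm' : m = (⟨z, hzU⟩ : ↥U) := Subtype.ext hmz
      exact hm' ▸ hm
    exact key (mem_zpowers _)
  have := PFrattini.frattini_le (p := 2) (N := N.subgroupOf U) (by
    rw [commutator_def, Subgroup.commutator_le]
    intro x _ y _
    exact hcomm x x.2 y y.2) (fun x => hsq x x.2) hmem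
  exact this

variable {T : Type*} [Group T]

theorem card_series [Finite T] (hT : IsPGroup 2 T) (ha : 2 ^ 14 ≤ Nat.card T)
    (hb : Nat.card ↥(Subgroup.upperCentralSeries T 4) = 16) :
    ∀ k, k ≤ 4 → Nat.card ↥(Subgroup.upperCentralSeries T k) = 2 ^ k := by
  have : Fact (Nat.Prime 2) := ⟨Nat.prime_two⟩
  set Z := fun k => Subgroup.upperCentralSeries T k with hZdef
  have hne : ∀ k, k ≤ 4 → Z k ≠ ⊤ := by
    intro k hk htop
    have h4 : Subgroup.upperCentralSeries T k ≤ Subgroup.upperCentralSeries T 4 := Subgroup.upperCentralSeries_mono T hk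
    have : Subgroup.upperCentralSeries T 4 = ⊤ := top_le_iff.1 (htop ▸ h4)
    rw [this, card_top] at hb
    norm_num at ha
    omega
  have hlt : ∀ k, k ≤ 3 → Nat.card ↥(Z k) * 2 ≤ Nat.card ↥(Z (k + 1)) := by
    intro k hk
    have hle : Z k ≤ Z (k + 1) := Subgroup.upperCentralSeries_mono T k.le_succ
    obtain ⟨m, hm⟩ := Subgroup.card_dvd_of_le hle
    rw [hm]
    refine Nat.mul_le_mul_left _ ?_
    by_contra hlt
    have hpos : 0 < Nat.card ↥(Z (k + 1)) := Nat.card_pos
    have hm0 : m ≠ 0 := fun h => by rw [h, mul_zero] at hm; omega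
    have hm1 : m = 1 := by omega
    rw [hm1, mul_one] at hm
    have heq : Z k = Z (k + 1) := eq_of_le_of_card_ge hle hm.le
    have : Nontrivial (T ⧸ Z k) := by
      obtain ⟨g, hg⟩ : ∃ g, g ∉ Z k := by
        by_contra hh
        push Not at hh
        exact hne k (by omega) (eq_top_iff.2 fun g _ => hh g)
      exact ⟨⟨g, 1, fun h => hg ((QuotientGroup.eq_one_iff g).1 h)⟩⟩
    obtain ⟨⟨c, hc⟩, hc1⟩ :=
      @exists_ne (Subgroup.center (T ⧸ Z k)) (hT.to_quotient (Z k)).center_nontrivial 1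
    obtain ⟨x, rfl⟩ := QuotientGroup.mk'_surjective (Z k) c
    refine hc1 (Subtype.ext ((QuotientGroup.eq_one_iff x).2 ?_))
    rw [heq]
    refine Subgroup.mem_upperCentralSeries_succ_iff.2 fun y => ?_
    show ⁅x, y⁆ ∈ Z k
    rw [← QuotientGroup.eq_one_iff, ← QuotientGroup.mk'_apply, map_commutatorElement,
      commutatorElement_eq_one_iff_mul_comm]
    exact (mem_center_iff.1 hc _).symm
  have h0 : Nat.card ↥(Z 0) = 1 := by
    simp [Z]
  have h4 : Nat.card ↥(Z 4) = 16 := hb
  have e0 := hlt 0 (by omega)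
  have e1 := hlt 1 (by omega)
  have e2 := hlt 2 (by omega)
  have e3 := hlt 3 (by omega)
  simp only [Nat.reduceAdd] at e0 e1 e2 e3
  intro k hk
  show Nat.card ↥(Z k) = 2 ^ k
  interval_cases k <;> simp only [Nat.reducePow] <;> omega

theorem inter_series_le [Finite T] (hT : IsPGroup 2 T) {N : Subgroup T} [hN : N.Normal] {k : ℕ}
    (h : ¬ N ≤ Subgroup.upperCentralSeries T k) :
    ∃ x ∈ N, x ∈ Subgroup.upperCentralSeries T (k + 1) ∧ x ∉ Subgroup.upperCentralSeries T k := by
  classical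
  have : Fact (Nat.Prime 2) := ⟨Nat.prime_two⟩
  have := hT.isNilpotent
  obtain ⟨n, hn⟩ := Group.IsNilpotent.nilpotent (G := T)
  obtain ⟨x, hxN, hx⟩ := SetLike.not_le_iff_exists.1 h
  have hex : ∃ m, ∃ x ∈ N, x ∈ Subgroup.upperCentralSeries T m ∧ x ∉ Subgroup.upperCentralSeries T k :=
    ⟨n, x, hxN, by rw [hn]; trivial, hx⟩
  obtain ⟨y, hyN, hym, hyk⟩ := Nat.find_spec hex
  by_cases hm : Nat.find hex ≤ k + 1
  · exact ⟨y, hyN, Subgroup.upperCentralSeries_mono T hm hym, hyk⟩
  obtain ⟨j, hj⟩ : ∃ j, Nat.find hex = j + 1 := ⟨Nat.find hex - 1, by omega⟩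
  rw [hj] at hym
  refine ⟨y, hyN, Subgroup.mem_upperCentralSeries_succ_iff.2 fun g => ?_, hyk⟩
  by_contra hg
  refine Nat.find_min hex (show j < Nat.find hex by omega) ⟨⁅y, g⁆, ?_, ?_, hg⟩
  · rw [commutatorElement_def, mul_assoc, mul_assoc]
    refine mul_mem hyN ?_
    have := hN.conj_mem _ (inv_mem hyN) g
    simpa [mul_assoc] using this
  · exact Subgroup.mem_upperCentralSeries_succ_iff.1 hym g

theorem succ_le_of_mem [Finite T] (hT : IsPGroup 2 T) (ha : 2 ^ 14 ≤ Nat.card T)
    (hb : Nat.card ↥(Subgroup.upperCentralSeries T 4) = 16) {N : Subgroup T} {k : ℕ} (hk : k ≤ 3)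
    (hkN : Subgroup.upperCentralSeries T k ≤ N) {x : T} (hxN : x ∈ N)
    (hx1 : x ∈ Subgroup.upperCentralSeries T (k + 1)) (hx : x ∉ Subgroup.upperCentralSeries T k) :
    Subgroup.upperCentralSeries T (k + 1) ≤ N := by
  set K := N ⊓ Subgroup.upperCentralSeries T (k + 1) with hK
  have hlt : Subgroup.upperCentralSeries T k < K :=
    lt_of_le_of_ne (le_inf hkN (Subgroup.upperCentralSeries_mono T k.le_succ))
      fun he => hx (he ▸ ⟨hxN, hx1⟩)
  have h1 := card_series hT ha hb k (by omega)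
  have h2 := card_series hT ha hb (k + 1) (by omega)
  obtain ⟨m, hm⟩ := Subgroup.card_dvd_of_le hlt.le
  have hne : Nat.card ↥(Subgroup.upperCentralSeries T k) ≠ Nat.card ↥K := fun he =>
    hlt.ne (eq_of_le_of_card_ge hlt.le he.ge)
  have hm2 : 2 ≤ m := by
    rcases m with _ | _ | m
    · rw [mul_zero] at hm
      exact absurd hm Nat.card_pos.ne'
    · simp only [zero_add, mul_one] at hm
      exact absurd hm.symm hne
    · omega
  have hge : Nat.card ↥(Subgroup.upperCentralSeries T (k + 1)) ≤ Nat.card ↥K := by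
    rw [h2, pow_succ, hm, h1]
    exact Nat.mul_le_mul_left _ hm2
  rw [← eq_of_le_of_card_ge inf_le_right hge]
  exact inf_le_left

theorem series_le_of_not_le [Finite T] (hT : IsPGroup 2 T) (ha : 2 ^ 14 ≤ Nat.card T)
    (hb : Nat.card ↥(Subgroup.upperCentralSeries T 4) = 16) {N : Subgroup T} [hN : N.Normal] :
    ∀ k, k ≤ 3 → ¬ N ≤ Subgroup.upperCentralSeries T k → Subgroup.upperCentralSeries T (k + 1) ≤ N := by
  intro k
  induction k using Nat.strong_induction_on with
  | _ k ih =>
  intro hk h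
  have hkN : Subgroup.upperCentralSeries T k ≤ N := by
    rcases k with _ | j
    · simp
    · exact ih j (by omega) (by omega) fun hle =>
        h (hle.trans (Subgroup.upperCentralSeries_mono T j.le_succ))
  obtain ⟨x, hxN, hx1, hx⟩ := inter_series_le hT h
  exact succ_le_of_mem hT ha hb hk hkN hxN hx1 hx

theorem eq_series_of_card_le [Finite T] (hT : IsPGroup 2 T) (ha : 2 ^ 14 ≤ Nat.card T)
    (hb : Nat.card ↥(Subgroup.upperCentralSeries T 4) = 16) {N : Subgroup T} [hN : N.Normal]
    (h : Nat.card ↥N ≤ 8) : ∃ k, k ≤ 3 ∧ N = Subgroup.upperCentralSeries T k := by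
  classical
  by_cases h3 : N ≤ Subgroup.upperCentralSeries T 3
  · have hex : ∃ k, N ≤ Subgroup.upperCentralSeries T k := ⟨3, h3⟩
    have hle := Nat.find_spec hex
    have hk3 : Nat.find hex ≤ 3 := Nat.find_le h3
    refine ⟨Nat.find hex, hk3, le_antisymm hle ?_⟩
    rcases hk : Nat.find hex with _ | j
    · simp
    · exact series_le_of_not_le hT ha hb j (by omega)
        (Nat.find_min hex (show j < Nat.find hex by omega))
  · have h4 := series_le_of_not_le hT ha hb 3 le_rfl h3
    have := Nat.le_of_dvd Nat.card_pos (Subgroup.card_dvd_of_le h4)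
    simp only [show 3 + 1 = 4 from rfl, hb] at this
    omega

end Cfsg.Agent.Lib.H59.Rud
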