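import Mathlib
import Cfsg.Agent.Lib.H59.Rud.Basic

/-!
The Frattini quotient of `W = C_T(Z_3)` is the regular module of `T / W` over `ZMod 2`.
-/

set_option autoImplicit false

namespace Cfsg.Agent.Lib.H59.Rud

open Subgroup
open scoped commutatorElement

variable {T : Type*} [Group T]

/-- The structure forced on `W = C_T(Z_3)`: coordinates `F` identify `W / Φ(W)` with the regular
module of `T / W`. -/
structure Core (W : Subgroup T) [W.Normal] where
  card_T : Nat.card T = 2 ^ 14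
  card_W : Nat.card ↥W = 2 ^ 11
  card_Q : Nat.card (T ⧸ W) = 8
  frattini_eq : (frattini ↥W).map W.subtype = Subgroup.upperCentralSeries T 3
  central : ∀ k ∈ Subgroup.upperCentralSeries T 3, ∀ w ∈ W, k * w = w * k
  le_W : Subgroup.upperCentralSeries T 4 ≤ W
  z2 : T
  z3 : T
  z2_mem : z2 ∈ Subgroup.upperCentralSeries T 2
  z2_notMem : z2 ∉ Subgroup.upperCentralSeries T 1
  z3_mem : z3 ∈ Subgroup.upperCentralSeries T 3
  z3_notMem : z3 ∉ Subgroup.upperCentralSeries T 2
  mem_W : ∀ g : T, g * z2 = z2 * g → g * z3 = z3 * g → g ∈ W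
  exists_conj : ∀ a b : T, a ∈ Subgroup.upperCentralSeries T 2 →
    a ∉ Subgroup.upperCentralSeries T 1 → b ∈ Subgroup.upperCentralSeries T 3 →
    b ∉ Subgroup.upperCentralSeries T 2 → ∃ g : T, g * z2 * g⁻¹ = a ∧ g * z3 * g⁻¹ = b
  F : ↥W → T ⧸ W → ZMod 2
  F_mul : ∀ a b q, F (a * b) q = F a q + F b q
  F_conj : ∀ (g : T) (w : ↥W) (q : T ⧸ W),
    F (MulAut.conjNormal g w) q = F w ((g : T ⧸ W)⁻¹ * q)
  F_eq_zero_iff : ∀ w : ↥W, (∀ q, F w q = 0) ↔ (w : T) ∈ Subgroup.upperCentralSeries T 3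
  F_surj : ∀ f : T ⧸ W → ZMod 2, ∃ w, F w = f

private theorem numeric (a k : ℕ) (ha : a ≤ 3) (hk : k ≤ 3)
    (h : 2 ^ 14 ≤ 2 ^ a * (2 ^ k * 2 ^ 2 ^ a)) : a = 3 ∧ k = 3 := by
  revert h; interval_cases a <;> interval_cases k <;> norm_num

theorem exists_core [Finite T] (hT : IsPGroup 2 T) (ha : 2 ^ 14 ≤ Nat.card T)
    (hb : Nat.card ↥(Subgroup.upperCentralSeries T 4) = 16) (W : Subgroup T)
    (hW : W = Subgroup.centralizer ((Subgroup.upperCentralSeries T 3 : Subgroup T) : Set T))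
    (hc : Nat.card ↥(frattini ↥W) ≤ 8) :
    ∃ _ : W.Normal, Nonempty (Core W) := by
  classical
  have : Fact (Nat.Prime 2) := ⟨Nat.prime_two⟩
  have hWn : W.Normal := hW ▸ (inferInstance : (Subgroup.centralizer
    ((Subgroup.upperCentralSeries T 3 : Subgroup T) : Set T)).Normal)
  refine ⟨hWn, ?_⟩
  have hcard := card_series hT ha hb
  have hcen : ∀ k ∈ Subgroup.upperCentralSeries T 3, ∀ w ∈ W, k * w = w * k := fun k hk w hw => by
    rw [hW] at hw
    exact mem_centralizer_iff.1 hw k hk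
  -- generators of the third centre
  have hnle : ∀ k, k ≤ 3 →
      ∃ z ∈ Subgroup.upperCentralSeries T (k + 1), z ∉ Subgroup.upperCentralSeries T k := by
    intro k hk
    by_contra h
    push Not at h
    have := Subgroup.card_le_of_le (H := Subgroup.upperCentralSeries T (k + 1))
      (K := Subgroup.upperCentralSeries T k) h
    rw [hcard (k + 1) (by omega), hcard k (by omega), pow_succ] at this
    have := Nat.pow_pos (n := k) (show 0 < 2 by norm_num)
    omega
  obtain ⟨z2, hz2, hz2'⟩ : ∃ z ∈ Subgroup.upperCentralSeries T 2,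
      z ∉ Subgroup.upperCentralSeries T 1 := hnle 1 (by omega)
  obtain ⟨z3, hz3, hz3'⟩ : ∃ z ∈ Subgroup.upperCentralSeries T 3,
      z ∉ Subgroup.upperCentralSeries T 2 := hnle 2 (by omega)
  have hmemW : ∀ g : T, g * z2 = z2 * g → g * z3 = z3 * g → g ∈ W := by
    intro g h2 h3
    set K := Subgroup.centralizer ({g} : Set T) with hK
    have k1 : Subgroup.upperCentralSeries T 1 ≤ K := by
      rw [Subgroup.upperCentralSeries_one, hK]
      exact center_le_centralizer _
    have m2 : z2 ∈ K := mem_centralizer_iff.2 fun y hy => by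
      rw [Set.mem_singleton_iff.1 hy]; exact h2
    have m3 : z3 ∈ K := mem_centralizer_iff.2 fun y hy => by
      rw [Set.mem_singleton_iff.1 hy]; exact h3
    have k2 := succ_le_of_mem hT ha hb (k := 1) (by omega) k1 m2 hz2 hz2'
    have k3 := succ_le_of_mem hT ha hb (k := 2) (by omega) k2 m3 hz3 hz3'
    rw [hW, mem_centralizer_iff]
    exact fun y hy => (mem_centralizer_iff.1 (k3 hy) g rfl).symm
  -- the action of the quotient on the two generators
  set S2 := ((Subgroup.upperCentralSeries T 2 : Set T) \ (Subgroup.upperCentralSeries T 1 : Set T))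
    with hS2
  set S3 := ((Subgroup.upperCentralSeries T 3 : Set T) \ (Subgroup.upperCentralSeries T 2 : Set T))
    with hS3
  have hconjmem : ∀ (g : T) (k : ℕ) (z : T),
      g * z * g⁻¹ ∈ Subgroup.upperCentralSeries T k ↔ z ∈ Subgroup.upperCentralSeries T k := by
    intro g k z
    refine ⟨fun h => ?_, fun h => Subgroup.Normal.conj_mem inferInstance z h g⟩
    simpa [mul_assoc] using Subgroup.Normal.conj_mem inferInstance _ h g⁻¹
  let φ : T ⧸ W → S2 × S3 := fun q =>
    (⟨q.out * z2 * q.out⁻¹, (hconjmem _ 2 z2).2 hz2, fun h => hz2' ((hconjmem _ 1 z2).1 h)⟩,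
     ⟨q.out * z3 * q.out⁻¹, (hconjmem _ 3 z3).2 hz3, fun h => hz3' ((hconjmem _ 2 z3).1 h)⟩)
  have hφ : Function.Injective φ := by
    intro p q h
    have e2 : p.out * z2 * p.out⁻¹ = q.out * z2 * q.out⁻¹ := congrArg (fun x => (x.1 : T)) h
    have e3 : p.out * z3 * p.out⁻¹ = q.out * z3 * q.out⁻¹ := congrArg (fun x => (x.2 : T)) h
    have key : ∀ z : T, p.out * z * p.out⁻¹ = q.out * z * q.out⁻¹ →
        (p.out⁻¹ * q.out) * z = z * (p.out⁻¹ * q.out) := by
      intro z hz
      calc (p.out⁻¹ * q.out) * z = p.out⁻¹ * (q.out * z * q.out⁻¹) * q.out := by group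
        _ = p.out⁻¹ * (p.out * z * p.out⁻¹) * q.out := by rw [hz]
        _ = z * (p.out⁻¹ * q.out) := by group
    have := QuotientGroup.eq.2 (hmemW _ (key z2 e2) (key z3 e3))
    rwa [QuotientGroup.out_eq', QuotientGroup.out_eq'] at this
  have hs : ∀ k, k ≤ 2 →
      Nat.card ↥((Subgroup.upperCentralSeries T (k + 1) : Set T) \
        (Subgroup.upperCentralSeries T k : Set T)) = 2 ^ k := by
    intro k hk
    rw [Nat.card_coe_set_eq, Set.ncard_sdiff (Subgroup.upperCentralSeries_mono T k.le_succ)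
      (Set.toFinite _), ← Nat.card_coe_set_eq, ← Nat.card_coe_set_eq]
    show Nat.card ↥(Subgroup.upperCentralSeries T (k + 1)) -
      Nat.card ↥(Subgroup.upperCentralSeries T k) = 2 ^ k
    rw [hcard _ (by omega), hcard _ (by omega), pow_succ]
    omega
  have hS : Nat.card (S2 × S3) = 8 := by
    rw [Nat.card_prod, hS2, hS3, hs 1 (by omega), hs 2 (by omega)]; norm_num
  have hQle : Nat.card (T ⧸ W) ≤ 8 := hS ▸ Nat.card_le_card_of_injective φ hφ
  obtain ⟨a, hQa⟩ : ∃ a, W.index = 2 ^ a := hT.index W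
  rw [index_eq_card] at hQa
  have ha3 : a ≤ 3 := by
    by_contra h
    have := Nat.pow_le_pow_right (show 0 < 2 by norm_num) (show 4 ≤ a by omega)
    omega
  have hTW : Nat.card T = Nat.card (T ⧸ W) * Nat.card ↥W := card_eq_card_quotient_mul_card_subgroup W
  -- the Frattini subgroup
  set N := (frattini ↥W).map W.subtype with hN
  have hNn : N.Normal := inferInstance
  have hNc : Nat.card ↥N ≤ 8 := by rwa [hN, card_map_of_injective W.subtype_injective]
  obtain ⟨k, hk3, hNk⟩ := eq_series_of_card_le hT ha hb hNc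
  have hWlarge : ¬ W ≤ Subgroup.upperCentralSeries T k := by
    intro hle
    have h1 := Subgroup.card_le_of_le hle
    rw [hcard k (by omega)] at h1
    have h2 := Nat.pow_le_pow_right (show 0 < 2 by norm_num) hk3
    have : Nat.card T ≤ 8 * 8 := hTW ▸ Nat.mul_le_mul hQle (by omega)
    norm_num at ha
    omega
  obtain ⟨z, hzW, hzk1, hzk⟩ := inter_series_le hT hWlarge
  obtain ⟨M, hM, hzM⟩ : ∃ M : Subgroup ↥W, IsCoatom M ∧ (⟨z, hzW⟩ : ↥W) ∉ M := by
    by_contra h
    push Not at h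
    have key : zpowers (⟨z, hzW⟩ : ↥W) ≤ frattini ↥W :=
      le_iInf₂ fun M hM => zpowers_le.2 (h M hM)
    exact hzk (hNk ▸ mem_map_of_mem W.subtype (key (mem_zpowers _)))
  have hMi := (Nilp.index_coatom_of_isPGroup (p := 2) (hT.to_subgroup W) hM).2
  let lam : ↥W → ZMod 2 := fun w => if w ∈ M then 0 else 1
  have hlam_mul : ∀ u v, lam (u * v) = lam u + lam v := by
    intro u v
    have := mul_mem_iff_of_index_two hMi (a := u) (b := v)
    by_cases hu : u ∈ M <;> by_cases hv : v ∈ M <;> simp [lam, this, hu, hv] <;> rfl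
  have hlam_inv : ∀ (u : ↥W) (v : ↥W), lam (u⁻¹ * v * u) = lam v := by
    intro u v
    have e1 : lam 1 = 0 := by simp [lam, one_mem]
    have e2 : lam u⁻¹ + lam u = 0 := by rw [← hlam_mul, inv_mul_cancel, e1]
    rw [hlam_mul, hlam_mul, add_right_comm, e2, zero_add]
  let Λ : T → ↥W → ZMod 2 := fun g w => lam ((MulAut.conjNormal g⁻¹ : MulAut ↥W) w)
  let F : ↥W → T ⧸ W → ZMod 2 := fun w q => Λ q.out w
  have hF_eq : ∀ (g : T) (w : ↥W), F w g = Λ g w := by
    intro g w
    obtain ⟨u, hu⟩ := QuotientGroup.mk_out_eq_mul W g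
    show lam _ = lam _
    rw [hu, ← hlam_inv u ((MulAut.conjNormal g⁻¹ : MulAut ↥W) w)]
    refine congrArg lam (Subtype.ext ?_)
    simp [MulAut.conjNormal_apply, mul_assoc]
  have hF_mul : ∀ u v q, F (u * v) q = F u q + F v q := fun u v q => by
    show lam _ = lam _ + lam _
    rw [map_mul, hlam_mul]
  have hF_conj : ∀ (g : T) (w : ↥W) (q : T ⧸ W),
      F (MulAut.conjNormal g w) q = F w ((g : T ⧸ W)⁻¹ * q) := by
    intro g w q
    induction q using QuotientGroup.induction_on with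
    | _ h =>
      rw [← QuotientGroup.mk_inv, ← QuotientGroup.mk_mul, hF_eq, hF_eq]
      refine congrArg lam (Subtype.ext ?_)
      simp [MulAut.conjNormal_apply, mul_assoc]
  let Fh : ↥W →* Multiplicative (T ⧸ W → ZMod 2) :=
    MonoidHom.mk' (fun w => Multiplicative.ofAdd (F w)) fun u v => by
      rw [← ofAdd_add]; exact congrArg _ (funext fun q => hF_mul u v q)
  have hker : ∀ w, w ∈ Fh.ker ↔ ∀ q, F w q = 0 := fun w => by
    rw [MonoidHom.mem_ker]
    exact ⟨fun h q => congrFun (congrArg Multiplicative.toAdd h) q,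
      fun h => congrArg Multiplicative.ofAdd (funext h)⟩
  have hfk : frattini ↥W ≤ Fh.ker := by
    intro w hw
    rw [hker]
    intro q
    show lam _ = 0
    have : (MulAut.conjNormal q.out⁻¹ : MulAut ↥W) w ∈ frattini ↥W := by
      have h := Subgroup.Characteristic.fixed (H := frattini ↥W)
        inferInstance (MulAut.conjNormal q.out⁻¹ : MulAut ↥W)
      rw [← h] at hw
      exact hw
    exact if_pos (frattini_le_coatom hM this)
  set K := Fh.ker.map W.subtype with hKdef
  have hKn : K.Normal := ⟨fun x hx g => by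
    obtain ⟨w, hw, rfl⟩ := hx
    refine ⟨MulAut.conjNormal g w, ?_, MulAut.conjNormal_apply g w⟩
    rw [SetLike.mem_coe, hker] at hw ⊢
    exact fun q => by rw [hF_conj]; exact hw _⟩
  have hNK : N ≤ K := map_mono hfk
  have hKk : K ≤ Subgroup.upperCentralSeries T k := by
    by_contra h
    obtain ⟨w, hw, hwz⟩ := series_le_of_not_le hT ha hb k hk3 h hzk1
    have hw' := (hker w).1 hw ((1 : T) : T ⧸ W)
    rw [hF_eq, show w = ⟨z, hzW⟩ from Subtype.ext hwz] at hw'
    have hz1 : (MulAut.conjNormal (1 : T)⁻¹ : MulAut ↥W) ⟨z, hzW⟩ = ⟨z, hzW⟩ :=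
      Subtype.ext (by rw [MulAut.conjNormal_apply]; group)
    have hw'' : lam ⟨z, hzW⟩ = 0 := hz1 ▸ hw'
    exact one_ne_zero ((if_neg hzM).symm.trans hw'')
  have hKeq : K = Subgroup.upperCentralSeries T k := le_antisymm hKk (hNk ▸ hNK)
  have hkc : Nat.card ↥Fh.ker = 2 ^ k := by
    rw [← hcard k (by omega), ← hKeq, hKdef, card_map_of_injective W.subtype_injective]
  have htarget : Nat.card (Multiplicative (T ⧸ W → ZMod 2)) = 2 ^ 2 ^ a := by
    rw [Nat.card_congr Multiplicative.toAdd, Nat.card_fun, Nat.card_zmod, hQa]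
  have hrange : Nat.card ↥Fh.range ≤ 2 ^ 2 ^ a := htarget ▸ card_le_card_group _
  have hWcard : Nat.card ↥W = 2 ^ k * Nat.card ↥Fh.range := by
    rw [← hkc, ← index_ker, card_mul_index]
  have hnum : a = 3 ∧ k = 3 := by
    have hle : 2 ^ 14 ≤ 2 ^ a * (2 ^ k * 2 ^ 2 ^ a) := by
      refine ha.trans ?_
      rw [hTW, hQa, hWcard]
      gcongr
    exact numeric a k ha3 hk3 hle
  obtain ⟨rfl, rfl⟩ := hnum
  have hT14 : Nat.card T = 2 ^ 14 ∧ Nat.card ↥Fh.range = 2 ^ 8 := by
    norm_num at hrange hQa hWcard ha ⊢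
    rw [hQa, hWcard] at hTW
    omega
  have hφs : Function.Surjective φ := by
    have := (Nat.bijective_iff_injective_and_card φ).2 ⟨hφ, by rw [hQa, hS]; norm_num⟩
    exact this.surjective
  refine ⟨{
    card_T := hT14.1
    card_W := by rw [hWcard, hT14.2]; norm_num
    card_Q := by rw [hQa]; norm_num
    frattini_eq := hNk
    central := hcen
    le_W := series_le_of_not_le hT ha hb 3 le_rfl hWlarge
    z2 := z2
    z3 := z3
    z2_mem := hz2
    z2_notMem := hz2'
    z3_mem := hz3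
    z3_notMem := hz3'
    mem_W := hmemW
    exists_conj := ?_
    F := F
    F_mul := hF_mul
    F_conj := hF_conj
    F_eq_zero_iff := ?_
    F_surj := ?_ }⟩
  · intro x y hx hx' hy hy'
    obtain ⟨q, hq⟩ := hφs (⟨x, hx, hx'⟩, ⟨y, hy, hy'⟩)
    exact ⟨q.out, congrArg (fun p => (p.1 : T)) hq, congrArg (fun p => (p.2 : T)) hq⟩
  · intro w
    rw [← hker, ← hKeq, hKdef]
    exact (mem_map_iff_mem W.subtype_injective).symm
  · intro f
    have htop : Fh.range = ⊤ := eq_top_of_card_eq _ (by rw [htarget, hT14.2]; norm_num)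
    obtain ⟨w, hw⟩ := MonoidHom.range_eq_top.1 htop (Multiplicative.ofAdd f)
    exact ⟨w, congrArg Multiplicative.toAdd hw⟩

end Cfsg.Agent.Lib.H59.Rud
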