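import Mathlib
import Cfsg.Agent.Lib.H59.Rud.Core

/-!
The derived subgroup of `W = C_T(Z_3)`, the commutator form on `W / Φ(W)` and the quotient `T / W`.
-/

set_option autoImplicit false

namespace Cfsg.Agent.Lib.H59.Rud

open Subgroup
open scoped commutatorElement

variable {T : Type*} [Group T] {W : Subgroup T} [W.Normal]

namespace Core

variable (c : Core W)
include c

theorem le_W3 : Subgroup.upperCentralSeries T 3 ≤ W :=
  (Subgroup.upperCentralSeries_mono T (by norm_num)).trans c.le_W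

theorem mem_frattini_iff (w : ↥W) :
    w ∈ frattini ↥W ↔ (w : T) ∈ Subgroup.upperCentralSeries T 3 := by
  rw [← c.frattini_eq]
  exact (mem_map_iff_mem W.subtype_injective).symm

theorem commute_of_mem (k w : ↥W) (hk : (k : T) ∈ Subgroup.upperCentralSeries T 3) :
    k * w = w * k :=
  Subtype.ext (c.central k hk w w.2)

theorem commute_three {x y : T} (hx : x ∈ Subgroup.upperCentralSeries T 3)
    (hy : y ∈ Subgroup.upperCentralSeries T 3) : x * y = y * x :=
  c.central x hx y (c.le_W3 hy)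

theorem inv_mul_mem_of_F_eq (a b : ↥W) (h : c.F a = c.F b) :
    ((a⁻¹ * b : ↥W) : T) ∈ Subgroup.upperCentralSeries T 3 := by
  rw [← c.F_eq_zero_iff]
  intro q
  have e1 : c.F 1 q = 0 := (c.F_eq_zero_iff 1).2 (by simp [one_mem]) q
  have e2 := c.F_mul a⁻¹ a q
  rw [inv_mul_cancel, e1] at e2
  rw [c.F_mul, ← h]
  exact e2.symm

section Finite
variable [Finite T] (hT : IsPGroup 2 T)
include hT

theorem commutator_mem (a b : ↥W) : (⁅a, b⁆ : ↥W).1 ∈ Subgroup.upperCentralSeries T 3 := by
  have : Fact (Nat.Prime 2) := ⟨Nat.prime_two⟩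
  exact (c.mem_frattini_iff _).1
    (PFrattini.commutator_le_frattini (p := 2) (hT.to_subgroup W)
      (commutator_mem_commutator (mem_top a) (mem_top b)))

theorem sq_mem (a : ↥W) : ((a ^ 2 : ↥W) : T) ∈ Subgroup.upperCentralSeries T 3 := by
  have : Fact (Nat.Prime 2) := ⟨Nat.prime_two⟩
  exact (c.mem_frattini_iff (a ^ 2)).1 (PFrattini.pow_mem_frattini (hT.to_subgroup W) a)

variable (ha : 2 ^ 14 ≤ Nat.card T) (hb : Nat.card ↥(Subgroup.upperCentralSeries T 4) = 16)
  (hd : ∀ U : Subgroup ↥W, U.index ≤ 16 → frattini ↥W ≤ U)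
include ha hb

omit c in
theorem mul_mem_two {x y : T} (hx : x ∈ Subgroup.upperCentralSeries T 3)
    (hy : y ∈ Subgroup.upperCentralSeries T 3) :
    x * y ∈ Subgroup.upperCentralSeries T 2 ↔
      (x ∈ Subgroup.upperCentralSeries T 2 ↔ y ∈ Subgroup.upperCentralSeries T 2) := by
  have hle : Subgroup.upperCentralSeries T 2 ≤ Subgroup.upperCentralSeries T 3 :=
    Subgroup.upperCentralSeries_mono T (by norm_num)
  have hi : ((Subgroup.upperCentralSeries T 2).subgroupOf
      (Subgroup.upperCentralSeries T 3)).index = 2 := by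
    have h := ((Subgroup.upperCentralSeries T 2).subgroupOf
      (Subgroup.upperCentralSeries T 3)).card_mul_index
    rw [Nat.card_congr (subgroupOfEquivOfLe hle).toEquiv, card_series hT ha hb 2 (by norm_num),
      card_series hT ha hb 3 (by norm_num)] at h
    omega
  exact mul_mem_iff_of_index_two hi (a := ⟨x, hx⟩) (b := ⟨y, hy⟩)

include hd

theorem frattini_not_small (U : Subgroup ↥W) (hU : U.index ≤ 8)
    (hsq : ∀ x ∈ U, ((x ^ 2 : ↥W) : T) ∈ Subgroup.upperCentralSeries T 2)
    (hcomm : ∀ x ∈ U, ∀ y ∈ U, (⁅x, y⁆ : ↥W).1 ∈ Subgroup.upperCentralSeries T 2) : False := by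
  have h := frattini_le_of_small_index (hT.to_subgroup W) hd hU
    (N := (Subgroup.upperCentralSeries T 2).subgroupOf W) hsq hcomm
  exact c.z3_notMem (h ((c.mem_frattini_iff ⟨c.z3, c.le_W3 c.z3_mem⟩).2 c.z3_mem))

theorem derived_eq : (commutator ↥W).map W.subtype = Subgroup.upperCentralSeries T 3 := by
  classical
  have hle : (commutator ↥W).map W.subtype ≤ Subgroup.upperCentralSeries T 3 := by
    rw [map_le_iff_le_comap, commutator_def, Subgroup.commutator_le]
    exact fun a _ b _ => c.commutator_mem hT a b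
  by_contra hne
  have hsmall : (commutator ↥W).map W.subtype ≤ Subgroup.upperCentralSeries T 2 := by
    by_contra h
    exact hne (le_antisymm hle (series_le_of_not_le hT ha hb 2 (by norm_num) h))
  have hcomm : ∀ a b : ↥W, (⁅a, b⁆ : ↥W).1 ∈ Subgroup.upperCentralSeries T 2 := fun a b =>
    hsmall (mem_map_of_mem W.subtype (commutator_mem_commutator (mem_top a) (mem_top b)))
  have hsq : ∀ a b : ↥W, ((a * b) ^ 2 : ↥W) = a ^ 2 * ⁅a⁻¹, b⁆ * b ^ 2 := fun a b => by
    rw [pow_two, pow_two, pow_two, commutatorElement_def]; group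
  let P : Subgroup ↥W :=
    { carrier := {w | ((w ^ 2 : ↥W) : T) ∈ Subgroup.upperCentralSeries T 2}
      one_mem' := by simp [one_mem]
      mul_mem' := fun {a b} ha' hb' => by
        show (((a * b) ^ 2 : ↥W) : T) ∈ Subgroup.upperCentralSeries T 2
        rw [hsq]
        exact mul_mem (mul_mem ha' (hcomm _ _)) hb'
      inv_mem' := fun {a} ha' => by
        show ((a⁻¹ ^ 2 : ↥W) : T) ∈ Subgroup.upperCentralSeries T 2
        rw [inv_pow]
        exact inv_mem ha' }
  refine c.frattini_not_small hT ha hb hd P ?_ (fun x hx => hx) (fun x _ y _ => hcomm x y)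
  by_cases htop : P = ⊤
  · rw [htop, index_top]; norm_num
  obtain ⟨a, ha'⟩ : ∃ a, a ∉ P := by
    by_contra h
    push Not at h
    exact htop (eq_top_iff.2 fun w _ => h w)
  have : P.index = 2 := by
    rw [index_eq_two_iff_exists_notMem_and]
    refine ⟨a, ha', fun b => or_iff_not_imp_right.2 fun hb' => ?_⟩
    show (((b * a) ^ 2 : ↥W) : T) ∈ Subgroup.upperCentralSeries T 2
    have hbb : ((b ^ 2 : ↥W) : T) ∈ Subgroup.upperCentralSeries T 3 := c.sq_mem hT b
    have haa : ((a ^ 2 : ↥W) : T) ∈ Subgroup.upperCentralSeries T 3 := c.sq_mem hT a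
    have hm : (((b ^ 2 * ⁅b⁻¹, a⁆) : ↥W) : T) ∉ Subgroup.upperCentralSeries T 2 := fun h =>
      hb' ((mul_mem_cancel_right (hcomm b⁻¹ a)).1 h)
    rw [hsq]
    simp only [coe_mul] at hm ⊢
    rw [mul_mem_two hT ha hb (mul_mem hbb (Subgroup.upperCentralSeries_mono T (by norm_num) (hcomm b⁻¹ a))) haa]
    exact iff_of_false hm ha'
  omega

theorem exponent_two : ∀ z ∈ Subgroup.upperCentralSeries T 3, z ^ 2 = 1 := by
  intro z hz
  rw [← c.derived_eq hT ha hb hd] at hz
  obtain ⟨w, hw, rfl⟩ := hz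
  let K : Subgroup ↥W :=
    { carrier := {w | (w : T) ∈ Subgroup.upperCentralSeries T 3 ∧ w ^ 2 = 1}
      one_mem' := ⟨by simp [one_mem], one_pow 2⟩
      mul_mem' := fun {a b} ha' hb' => ⟨mul_mem ha'.1 hb'.1, by
        have hab : Commute a b := c.commute_of_mem a b ha'.1
        rw [hab.mul_pow, ha'.2, hb'.2, mul_one]⟩
      inv_mem' := fun {a} ha' => ⟨inv_mem ha'.1, by rw [inv_pow, ha'.2, inv_one]⟩ }
  have hK : commutator ↥W ≤ K := by
    rw [_root_.commutator_def, Subgroup.commutator_le]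
    intro a _ b _
    refine ⟨c.commutator_mem hT a b, ?_⟩
    set k := ⁅a, b⁆ with hk
    have hkc : ∀ v, k * v = v * k := fun v => c.commute_of_mem k v (c.commutator_mem hT a b)
    have hab : a * b * a⁻¹ = k * b := by rw [hk, commutatorElement_def]; group
    have haa : a * a * b = b * (a * a) := by
      rw [← pow_two]; exact c.commute_of_mem (a ^ 2) b (c.sq_mem hT a)
    have h1 : a * a * b * (a * a)⁻¹ = k * k * b := by
      calc a * a * b * (a * a)⁻¹ = a * (a * b * a⁻¹) * a⁻¹ := by group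
        _ = a * k * b * a⁻¹ := by rw [hab]; group
        _ = k * (a * b * a⁻¹) := by rw [← hkc a]; group
        _ = k * k * b := by rw [hab]; group
    rw [haa, mul_inv_cancel_right] at h1
    rw [pow_two]
    exact mul_eq_right.1 h1.symm
  exact congrArg (fun v : ↥W => (v : T)) (hK hw).2

end Finite

end Core

end Cfsg.Agent.Lib.H59.Rud
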