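import Mathlib
import Cfsg.Agent.Lib.H59.Rud.Derived
import Cfsg.Agent.Lib.Classical.Dihedral

/-!
The quotient `T / W` is dihedral of order `8`.
-/

set_option autoImplicit false

namespace Cfsg.Agent.Lib.H59.Rud

open Subgroup
open scoped commutatorElement

variable {T : Type*} [Group T] {W : Subgroup T} [W.Normal]

namespace Core

variable (c : Core W)
include c

theorem mk_eq_mk (g g' : T) (h2 : MulAut.conj g c.z2 = MulAut.conj g' c.z2)
    (h3 : MulAut.conj g c.z3 = MulAut.conj g' c.z3) : (g : T ⧸ W) = g' := by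
  rw [QuotientGroup.eq]
  have key : ∀ z : T, MulAut.conj g z = MulAut.conj g' z →
      (g⁻¹ * g') * z = z * (g⁻¹ * g') := by
    intro z hz
    rw [MulAut.conj_apply, MulAut.conj_apply] at hz
    calc (g⁻¹ * g') * z = g⁻¹ * (g' * z * g'⁻¹) * g' := by group
      _ = g⁻¹ * (g * z * g⁻¹) * g' := by rw [hz]
      _ = z * (g⁻¹ * g') := by group
  exact c.mem_W _ (key _ h2) (key _ h3)

/-- An element fixing `Z_2` and moving `z3` has no fixed points in `Z_3 \ Z_2`. -/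
theorem conj_ne [Finite T] (hT : IsPGroup 2 T) (ha : 2 ^ 14 ≤ Nat.card T)
    (hb : Nat.card ↥(Subgroup.upperCentralSeries T 4) = 16) (g : T)
    (h2 : MulAut.conj g c.z2 = c.z2) (h3 : MulAut.conj g c.z3 ≠ c.z3)
    {k : T} (hk : k ∈ Subgroup.upperCentralSeries T 3)
    (hk2 : k ∉ Subgroup.upperCentralSeries T 2) : MulAut.conj g k ≠ k := by
  intro hfix
  set K := Subgroup.centralizer ({g} : Set T) with hK
  have k1 : Subgroup.upperCentralSeries T 1 ≤ K := by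
    rw [Subgroup.upperCentralSeries_one, hK]
    exact center_le_centralizer _
  have hmemK : ∀ z, MulAut.conj g z = z → z ∈ K := fun z hz => mem_centralizer_iff.2 fun y hy => by
    rw [Set.mem_singleton_iff.1 hy]
    rw [MulAut.conj_apply, mul_inv_eq_iff_eq_mul] at hz
    exact hz
  have k2 := succ_le_of_mem hT ha hb (k := 1) (by norm_num) k1 (hmemK _ h2) c.z2_mem c.z2_notMem
  have k3 := succ_le_of_mem hT ha hb (k := 2) (by norm_num) k2 (hmemK _ hfix) hk hk2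
  refine h3 ?_
  have := mem_centralizer_iff.1 (k3 c.z3_mem) g rfl
  rw [MulAut.conj_apply, this, mul_inv_cancel_right]

theorem exists_gens [Finite T] (hT : IsPGroup 2 T) (ha : 2 ^ 14 ≤ Nat.card T)
    (hb : Nat.card ↥(Subgroup.upperCentralSeries T 4) = 16)
    (hd : ∀ U : Subgroup ↥W, U.index ≤ 16 → frattini ↥W ≤ U) :
    ∃ gr gs gh : T,
      ((gr : T ⧸ W) * gr = gh) ∧ ((gh : T ⧸ W) ≠ 1) ∧ ((gh : T ⧸ W) * gh = 1) ∧
      ((gs : T ⧸ W) * gs = 1) ∧ ((gs : T ⧸ W) * gr * gs = (gr : T ⧸ W)⁻¹) ∧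
      ((gs : T ⧸ W) ∉ Subgroup.zpowers (gr : T ⧸ W)) ∧
      (∀ g ∈ [gh, gs, gs * gh], ∀ k ∈ Subgroup.upperCentralSeries T 3,
        k ∉ Subgroup.upperCentralSeries T 2 → MulAut.conj g k ≠ k) := by
  obtain ⟨z1, hz1, hz1'⟩ : ∃ z ∈ Subgroup.upperCentralSeries T 1, z ≠ 1 := by
    by_contra h
    push Not at h
    have h1 : Subgroup.upperCentralSeries T 1 = ⊥ := (eq_bot_iff_forall _).2 h
    have := card_series hT ha hb 1 (by norm_num)
    rw [h1, card_bot] at this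
    norm_num at this
  have hexp := c.exponent_two hT ha hb hd
  have le12 : Subgroup.upperCentralSeries T 1 ≤ Subgroup.upperCentralSeries T 2 :=
    Subgroup.upperCentralSeries_mono T (by norm_num)
  have le23 : Subgroup.upperCentralSeries T 2 ≤ Subgroup.upperCentralSeries T 3 :=
    Subgroup.upperCentralSeries_mono T (by norm_num)
  have m1 : z1 ∈ Subgroup.upperCentralSeries T 3 := le23 (le12 hz1)
  have m2 : c.z2 ∈ Subgroup.upperCentralSeries T 3 := le23 c.z2_mem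
  have q1 : z1 * z1 = 1 := pow_two z1 ▸ hexp z1 m1
  have q2 : c.z2 * c.z2 = 1 := pow_two c.z2 ▸ hexp c.z2 m2
  have fix1 : ∀ g : T, MulAut.conj g z1 = z1 := by
    intro g
    rw [Subgroup.upperCentralSeries_one] at hz1
    rw [MulAut.conj_apply, mem_center_iff.1 hz1 g, mul_inv_cancel_right]
  have a21 : c.z2 * z1 ∈ Subgroup.upperCentralSeries T 2 ∧
      c.z2 * z1 ∉ Subgroup.upperCentralSeries T 1 :=
    ⟨mul_mem c.z2_mem (le12 hz1), fun h => c.z2_notMem ((mul_mem_cancel_right hz1).1 h)⟩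
  have b32 : c.z3 * c.z2 ∈ Subgroup.upperCentralSeries T 3 ∧
      c.z3 * c.z2 ∉ Subgroup.upperCentralSeries T 2 :=
    ⟨mul_mem c.z3_mem m2, fun h => c.z3_notMem ((mul_mem_cancel_right c.z2_mem).1 h)⟩
  have b31 : c.z3 * z1 ∈ Subgroup.upperCentralSeries T 3 ∧
      c.z3 * z1 ∉ Subgroup.upperCentralSeries T 2 :=
    ⟨mul_mem c.z3_mem m1, fun h => c.z3_notMem ((mul_mem_cancel_right (le12 hz1)).1 h)⟩
  obtain ⟨gr, r2, r3⟩ := c.exists_conj _ _ a21.1 a21.2 b32.1 b32.2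
  obtain ⟨gs, s2, s3⟩ := c.exists_conj _ _ c.z2_mem c.z2_notMem b32.1 b32.2
  obtain ⟨gh, t2, t3⟩ := c.exists_conj _ _ c.z2_mem c.z2_notMem b31.1 b31.2
  rw [← MulAut.conj_apply] at r2 r3 s2 s3 t2 t3
  have one2 : MulAut.conj (1 : T) c.z2 = c.z2 := by simp
  have one3 : MulAut.conj (1 : T) c.z3 = c.z3 := by simp
  -- products of the three automorphisms
  have rr2 : MulAut.conj (gr * gr) c.z2 = c.z2 := by
    rw [map_mul, MulAut.mul_apply, r2, map_mul, r2, fix1, mul_assoc, q1, mul_one]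
  have rr3 : MulAut.conj (gr * gr) c.z3 = c.z3 * z1 := by
    rw [map_mul, MulAut.mul_apply, r3, map_mul, r2, r3, mul_assoc, ← mul_assoc c.z2, q2, one_mul]
  have hh3 : MulAut.conj (gh * gh) c.z3 = c.z3 := by
    rw [map_mul, MulAut.mul_apply, t3, map_mul, t3, fix1, mul_assoc, q1, mul_one]
  have hh2 : MulAut.conj (gh * gh) c.z2 = c.z2 := by rw [map_mul, MulAut.mul_apply, t2, t2]
  have ss2 : MulAut.conj (gs * gs) c.z2 = c.z2 := by rw [map_mul, MulAut.mul_apply, s2, s2]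
  have ss3 : MulAut.conj (gs * gs) c.z3 = c.z3 := by
    rw [map_mul, MulAut.mul_apply, s3, map_mul, s2, s3, mul_assoc, q2, mul_one]
  have sr2 : MulAut.conj (gs * gr * gs) c.z2 = c.z2 * z1 := by
    rw [map_mul, map_mul, MulAut.mul_apply, MulAut.mul_apply, s2, r2, map_mul, s2, fix1]
  have sr3 : MulAut.conj (gs * gr * gs) c.z3 = c.z3 * c.z2 * z1 := by
    rw [map_mul, map_mul, MulAut.mul_apply, MulAut.mul_apply, s3, map_mul, r2, r3,
      mul_assoc c.z3, ← mul_assoc c.z2 c.z2, q2, one_mul, map_mul, s3, fix1]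
  have rh2 : MulAut.conj (gr * gh) c.z2 = c.z2 * z1 := by rw [map_mul, MulAut.mul_apply, t2, r2]
  have rh3 : MulAut.conj (gr * gh) c.z3 = c.z3 * c.z2 * z1 := by
    rw [map_mul, MulAut.mul_apply, t3, map_mul, r3, fix1]
  have sh2 : MulAut.conj (gs * gh) c.z2 = c.z2 := by rw [map_mul, MulAut.mul_apply, t2, s2]
  have sh3 : MulAut.conj (gs * gh) c.z3 = c.z3 * c.z2 * z1 := by
    rw [map_mul, MulAut.mul_apply, t3, map_mul, s3, fix1]
  have d1 : c.z3 * z1 ≠ c.z3 := fun h => hz1' (mul_eq_left.1 h)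
  have d2 : c.z3 * c.z2 ≠ c.z3 := fun h =>
    c.z2_notMem (by rw [mul_eq_left.1 h]; exact one_mem _)
  have d21 : c.z3 * c.z2 * z1 ≠ c.z3 := fun h => by
    rw [mul_assoc] at h
    exact a21.2 (by rw [mul_eq_left.1 h]; exact one_mem _)
  have hrr : (gr : T ⧸ W) * gr = gh := by
    rw [← QuotientGroup.mk_mul]
    exact c.mk_eq_mk _ _ (rr2.trans t2.symm) (rr3.trans t3.symm)
  have hhh : (gh : T ⧸ W) * gh = 1 := by
    rw [← QuotientGroup.mk_mul, ← QuotientGroup.mk_one]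
    exact c.mk_eq_mk _ _ (hh2.trans one2.symm) (hh3.trans one3.symm)
  have hh1 : (gh : T ⧸ W) ≠ 1 := by
    intro h
    have hmem : gh ∈ W := (QuotientGroup.eq_one_iff gh).1 h
    refine d1 ?_
    rw [← t3, MulAut.conj_apply, ← c.central _ c.z3_mem _ hmem, mul_inv_cancel_right]
  have hss : (gs : T ⧸ W) * gs = 1 := by
    rw [← QuotientGroup.mk_mul, ← QuotientGroup.mk_one]
    exact c.mk_eq_mk _ _ (ss2.trans one2.symm) (ss3.trans one3.symm)
  have hrinv : (gr : T ⧸ W)⁻¹ = (gr : T ⧸ W) * gh := by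
    rw [inv_eq_iff_mul_eq_one, ← mul_assoc, hrr, hhh]
  have hsrs : (gs : T ⧸ W) * gr * gs = (gr : T ⧸ W)⁻¹ := by
    rw [hrinv, ← QuotientGroup.mk_mul, ← QuotientGroup.mk_mul, ← QuotientGroup.mk_mul]
    exact c.mk_eq_mk _ _ (sr2.trans rh2.symm) (sr3.trans rh3.symm)
  refine ⟨gr, gs, gh, hrr, hh1, hhh, hss, hsrs, ?_, ?_⟩
  · rintro ⟨i, hi⟩
    have hi' : (gr : T ⧸ W) ^ i = (gs : T ⧸ W) := hi
    have hcomm : (gs : T ⧸ W) * gr = gr * gs := hi' ▸ (Commute.self_zpow _ i).symm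
    apply hh1
    rw [hcomm, mul_assoc, hss, mul_one] at hsrs
    rw [← hrr]
    nth_rewrite 1 [hsrs]
    exact inv_mul_cancel _
  · intro g hg k hk hk2
    simp only [List.mem_cons, List.not_mem_nil, or_false] at hg
    rcases hg with rfl | rfl | rfl
    · exact c.conj_ne hT ha hb _ t2 (t3 ▸ d1) hk hk2
    · exact c.conj_ne hT ha hb _ s2 (s3 ▸ d2) hk hk2
    · exact c.conj_ne hT ha hb _ sh2 (sh3 ▸ d21) hk hk2

theorem nonempty_dihedral [Finite T] (hT : IsPGroup 2 T) (ha : 2 ^ 14 ≤ Nat.card T)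
    (hb : Nat.card ↥(Subgroup.upperCentralSeries T 4) = 16)
    (hd : ∀ U : Subgroup ↥W, U.index ≤ 16 → frattini ↥W ≤ U) :
    Nonempty (T ⧸ W ≃* DihedralGroup 4) := by
  obtain ⟨gr, gs, gh, hrr, hh1, hhh, hss, hsrs, hns, -⟩ := c.exists_gens hT ha hb hd
  have : Fact (Nat.Prime 2) := ⟨Nat.prime_two⟩
  refine Lib.Classical.nonempty_dihedralGroup_mulEquiv 4 (gr : T ⧸ W) gs ?_ hss hsrs hns
    (by rw [c.card_Q])
  have := orderOf_eq_prime_pow (p := 2) (n := 1) (x := (gr : T ⧸ W))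
    (by rw [pow_one, pow_two, hrr]; exact hh1)
    (by rw [show 2 ^ (1 + 1) = 2 * 2 from rfl, pow_mul, pow_two, pow_two, hrr, hhh])
  simpa using this

end Core

end Cfsg.Agent.Lib.H59.Rud
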