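import Mathlib
import Cfsg.Agent.Lib.H59.Rud.Quotient

/-!
The centre of `W` is `Z_3(T)`.
-/

set_option autoImplicit false

namespace Cfsg.Agent.Lib.H59.Rud

open Subgroup
open scoped commutatorElement

private theorem zadd_cases : ∀ a b : ZMod 2, a = b ∨ a = b + 1 := by decide

variable {T : Type*} [Group T] {W : Subgroup T} [W.Normal]

namespace Core

variable (c : Core W)
include c

theorem F_one (q : T ⧸ W) : c.F 1 q = 0 := (c.F_eq_zero_iff 1).2 (by simp [one_mem]) q

theorem F_inv (a : ↥W) (q : T ⧸ W) : c.F a⁻¹ q = c.F a q := by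
  have h := c.F_mul a⁻¹ a q
  rw [inv_mul_cancel, c.F_one] at h
  revert h
  generalize c.F a⁻¹ q = x
  generalize c.F a q = y
  revert x y
  decide

/-- An additive map on `W` which kills `Z_3` and a basis of `W / Z_3` is zero. -/
theorem eq_zero_of_basis [Finite T] (E : T ⧸ W → ↥W)
    (hE : ∀ p, c.F (E p) p = 1) (hE' : ∀ p q, p ≠ q → c.F (E p) q = 0)
    (ψ : ↥W → ZMod 2) (hψ : ∀ a b, ψ (a * b) = ψ a + ψ b)
    (hψ0 : ∀ a : ↥W, (a : T) ∈ Subgroup.upperCentralSeries T 3 → ψ a = 0)
    (hψE : ∀ p, ψ (E p) = 0) (w : ↥W) : ψ w = 0 := by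
  classical
  letI := Fintype.ofFinite (T ⧸ W)
  suffices ∀ (s : Finset (T ⧸ W)) (w : ↥W), (∀ q, q ∉ s → c.F w q = 0) → ψ w = 0 from
    this Finset.univ w fun q hq => absurd (Finset.mem_univ q) hq
  intro s
  induction s using Finset.induction with
  | empty => exact fun w h => hψ0 w ((c.F_eq_zero_iff w).1 fun q => h q (Finset.notMem_empty q))
  | insert p s hp ih =>
    intro w h
    by_cases hpw : c.F w p = 0
    · exact ih w fun q hq => by
        by_cases hqp : q = p
        · exact hqp ▸ hpw
        · exact h q (by simp [hq, hqp])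
    · have := ih (w * E p) fun q hq => by
        rw [c.F_mul]
        by_cases hqp : q = p
        · subst hqp
          rw [hE]
          revert hpw
          generalize c.F w q = x
          revert x
          decide
        · rw [h q (by simp [hq, hqp]), hE' p q (Ne.symm hqp), add_zero]
      rwa [hψ, hψE, add_zero] at this

set_option maxHeartbeats 1000000 in
theorem center_le [Finite T] (hT : IsPGroup 2 T) (ha : 2 ^ 14 ≤ Nat.card T)
    (hb : Nat.card ↥(Subgroup.upperCentralSeries T 4) = 16)
    (hd : ∀ U : Subgroup ↥W, U.index ≤ 16 → frattini ↥W ≤ U) :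
    (Subgroup.center ↥W).map W.subtype ≤ Subgroup.upperCentralSeries T 3 := by
  classical
  by_contra hcon
  obtain ⟨y0, hy0, hy4, hy3⟩ := inter_series_le (N := (Subgroup.center ↥W).map W.subtype) hT hcon
  obtain ⟨y, hyc, rfl⟩ := hy0
  rw [SetLike.mem_coe, mem_center_iff] at hyc
  simp only [Nat.reduceAdd] at hy4
  -- the generators of the quotient
  obtain ⟨gr, gs, gh, hrr, hh1, hhh, hss, hsrs, hns, hfix⟩ := c.exists_gens hT ha hb hd
  let r : T ⧸ W := gr
  let s : T ⧸ W := gs
  let h : T ⧸ W := gh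
  have hrr : r * r = h := hrr
  have hh1 : h ≠ 1 := hh1
  have hhh : h * h = 1 := hhh
  have hss : s * s = 1 := hss
  have hsrs : s * r * s = r⁻¹ := hsrs
  have hns : s ∉ Subgroup.zpowers r := hns
  have hhinv : h⁻¹ = h := inv_eq_of_mul_eq_one_right hhh
  have hsr : s * r = r⁻¹ * s := by rw [← hsrs, mul_assoc, hss, mul_one]
  have hsh : s * h = h * s := by
    have e1 : s * h * s = h⁻¹ := by
      calc s * h * s = (s * r * s) * (s * r * s) := by
            rw [← hrr]; simp only [mul_assoc]; rw [← mul_assoc s s, hss, one_mul]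
        _ = h⁻¹ := by rw [hsrs, ← mul_inv_rev, hrr]
    rw [hhinv] at e1
    calc s * h = (s * h * s) * s := by rw [mul_assoc _ s, hss, mul_one]
      _ = h * s := by rw [e1]
  have hr4 : r ^ 4 = 1 := by rw [show 4 = 2 * 2 from rfl, pow_mul, pow_two, pow_two, hrr, hhh]
  have horder : orderOf r = 4 := by
    have : Fact (Nat.Prime 2) := ⟨Nat.prime_two⟩
    simpa using orderOf_eq_prime_pow (p := 2) (n := 1) (x := r)
      (by rw [pow_one, pow_two, hrr]; exact hh1) hr4
  let f : Bool × Fin 4 → T ⧸ W := fun x => (if x.1 then s else 1) * r ^ (x.2 : ℕ)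
  have hfinj : Function.Injective f := by
    have key : ∀ i j : Fin 4, s * r ^ (i : ℕ) ≠ r ^ (j : ℕ) := fun i j h' => hns (by
      rw [eq_mul_inv_of_mul_eq h']
      exact mul_mem (pow_mem (mem_zpowers r) _) (inv_mem (pow_mem (mem_zpowers r) _)))
    have hpow : ∀ i j : Fin 4, r ^ (i : ℕ) = r ^ (j : ℕ) → i = j := fun i j h' => Fin.ext
      (pow_injOn_Iio_orderOf (by rw [Set.mem_Iio, horder]; exact i.2)
        (by rw [Set.mem_Iio, horder]; exact j.2) h')
    rintro ⟨_ | _, i⟩ ⟨_ | _, j⟩ h' <;>
      simp only [f, Bool.false_eq_true, if_true, if_false, one_mul, mul_right_inj] at h'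
    · rw [hpow i j h']
    · exact absurd h'.symm (key j i)
    · exact absurd h' (key i j)
    · rw [hpow i j h']
  have hfbij : Function.Bijective f := (Nat.bijective_iff_injective_and_card f).2 ⟨hfinj, by
    rw [c.card_Q, Nat.card_prod, Nat.card_eq_fintype_card, Nat.card_eq_fintype_card]; rfl⟩
  have hcenh : ∀ q, q * h = h * q := by
    intro q
    obtain ⟨⟨b, i⟩, rfl⟩ := hfbij.2 q
    have hr : Commute (r ^ (i : ℕ)) h := by
      rw [← hrr, ← pow_two]; exact Commute.pow_pow_self r _ _
    cases b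
    · simpa [f] using hr.eq
    · exact (Commute.mul_left hsh hr).eq
  have hrinv : r⁻¹ = r * h := by
    rw [inv_eq_iff_mul_eq_one, ← mul_assoc, hrr, hhh]
  -- action, bit, form, square
  let act : T → MulAut ↥W := fun g => MulAut.conjNormal g
  let bit : ↥W → ZMod 2 := fun w =>
    if (w : T) ∈ Subgroup.upperCentralSeries T 2 then 0 else 1
  have bit_mul : ∀ a b : ↥W, (a : T) ∈ Subgroup.upperCentralSeries T 3 →
      (b : T) ∈ Subgroup.upperCentralSeries T 3 → bit (a * b) = bit a + bit b := by
    intro a b ha3 hb3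
    have := mul_mem_two hT ha hb ha3 hb3
    by_cases h1 : (a : T) ∈ Subgroup.upperCentralSeries T 2 <;>
      by_cases h2 : (b : T) ∈ Subgroup.upperCentralSeries T 2 <;>
      simp [bit, this, h1, h2] <;> rfl
  have bit_one : bit 1 = 0 := by simp [bit, one_mem]
  have bit_inv : ∀ a : ↥W, bit a⁻¹ = bit a := fun a => by simp [bit, inv_mem_iff]
  have bit_act : ∀ g a, bit (act g a) = bit a := by
    intro g a
    have hiff : ((act g a : ↥W) : T) ∈ Subgroup.upperCentralSeries T 2 ↔
        (a : T) ∈ Subgroup.upperCentralSeries T 2 := by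
      show g * (a : T) * g⁻¹ ∈ _ ↔ _
      refine ⟨fun h' => ?_, fun h' => Subgroup.Normal.conj_mem inferInstance _ h' g⟩
      simpa [mul_assoc] using Subgroup.Normal.conj_mem inferInstance _ h' g⁻¹
    simp only [bit, hiff]
  have hsq : ∀ k : ↥W, (k : T) ∈ Subgroup.upperCentralSeries T 3 → k * k = 1 := fun k hk =>
    Subtype.ext (by rw [coe_mul, ← pow_two]; exact c.exponent_two hT ha hb hd _ hk)
  let B : ↥W → ↥W → ZMod 2 := fun a b => bit ⁅a, b⁆
  have B_symm : ∀ a b, B b a = B a b := fun a b => by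
    show bit ⁅b, a⁆ = bit ⁅a, b⁆
    rw [← commutatorElement_inv, bit_inv]
  have B_mul : ∀ a b x, B (a * b) x = B a x + B b x := by
    intro a b x
    show bit ⁅a * b, x⁆ = bit ⁅a, x⁆ + bit ⁅b, x⁆
    set k := ⁅b, x⁆ with hk
    have hkc : ∀ v, k * v = v * k := fun v => c.commute_of_mem k v (c.commutator_mem hT b x)
    have e : ⁅a * b, x⁆ = k * ⁅a, x⁆ := by
      calc ⁅a * b, x⁆ = a * k * x * a⁻¹ * x⁻¹ := by
            rw [hk, commutatorElement_def, commutatorElement_def]; group
        _ = k * ⁅a, x⁆ := by rw [← hkc a, commutatorElement_def]; group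
    rw [e, bit_mul _ _ (c.commutator_mem hT b x) (c.commutator_mem hT a x), add_comm]
  have B_zero : ∀ k x : ↥W, (k : T) ∈ Subgroup.upperCentralSeries T 3 → B k x = 0 := by
    intro k x hk
    show bit ⁅k, x⁆ = 0
    rw [commutatorElement_eq_one_iff_mul_comm.2 (c.commute_of_mem k x hk), bit_one]
  have B_congr : ∀ a a' x, c.F a = c.F a' → B a x = B a' x := by
    intro a a' x he
    have h1 := B_mul a (a⁻¹ * a') x
    rw [mul_inv_cancel_left, B_zero _ x (c.inv_mul_mem_of_F_eq a a' he), add_zero] at h1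
    exact h1.symm
  have B_act : ∀ g a b, B (act g a) (act g b) = B a b := by
    intro g a b
    show bit ⁅act g a, act g b⁆ = bit ⁅a, b⁆
    rw [← map_commutatorElement, bit_act]
  -- a basis
  obtain ⟨e, he⟩ := c.F_surj (fun q => if q = 1 then 1 else 0)
  let E : T ⧸ W → ↥W := fun p => act p.out e
  have hFact : ∀ g p q, c.F (act g (E p)) q = if q = (g : T ⧸ W) * p then 1 else 0 := by
    intro g p q
    show c.F (MulAut.conjNormal g (MulAut.conjNormal p.out e)) q = _
    rw [c.F_conj, c.F_conj, he, QuotientGroup.out_eq']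
    simp only [inv_mul_eq_one, eq_comm (a := p), inv_mul_eq_iff_eq_mul, mul_one]
  have hFE : ∀ p q, c.F (E p) q = if q = p then 1 else 0 := by
    intro p q
    show c.F (MulAut.conjNormal p.out e) q = _
    rw [c.F_conj, he, QuotientGroup.out_eq']
    simp only [inv_mul_eq_one, eq_comm]
  have hactE : ∀ g p, c.F (act g (E p)) = c.F (E ((g : T ⧸ W) * p)) := fun g p =>
    funext fun q => by rw [hFact, hFE]
  have hzero := c.eq_zero_of_basis E (fun p => by rw [hFE, if_pos rfl])
    (fun p q hpq => by rw [hFE, if_neg (Ne.symm hpq)])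
  let cc : T ⧸ W → ZMod 2 := fun p => B e (E p)
  have hBE : ∀ p q, B (E p) (E q) = cc (p⁻¹ * q) := by
    intro p q
    show _ = B e (E (p⁻¹ * q))
    rw [← B_act p.out e (E (p⁻¹ * q)), B_symm (E q) (E p),
      B_symm (act p.out (E (p⁻¹ * q))) (act p.out e)]
    refine B_congr _ _ _ ?_
    rw [hactE, QuotientGroup.out_eq', mul_inv_cancel_left]
  -- the commutator of an element with its conjugate under an involution
  have hinvol : ∀ g ∈ [gh, gs, gs * gh], (g : T ⧸ W) * g = 1 → ∀ a, bit ⁅a, act g a⁆ = 0 := by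
    intro g hg hgg a
    have hgW : g * g ∈ W := (QuotientGroup.eq_one_iff _).1 hgg
    set w : ↥W := ⟨g * g, hgW⟩ with hw
    set a' := act g a with ha'
    have e2 : act g a' = ⁅w, a⁆ * a := by
      apply Subtype.ext
      show g * (g * (a : T) * g⁻¹) * g⁻¹ = g * g * (a : T) * (g * g)⁻¹ * (a : T)⁻¹ * (a : T)
      group
    have hk : act g ⁅a, a'⁆ = ⁅a, a'⁆ := by
      set k' := ⁅w, a⁆ with hk'
      have hkc : ∀ v, k' * v = v * k' := fun v => c.commute_of_mem k' v (c.commutator_mem hT w a)
      calc act g ⁅a, a'⁆ = ⁅a', k' * a⁆ := by rw [map_commutatorElement, e2]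
        _ = (a' * k') * (a * a'⁻¹ * a⁻¹) * k'⁻¹ := by rw [commutatorElement_def]; group
        _ = k' * ⁅a', a⁆ * k'⁻¹ := by rw [← hkc a', commutatorElement_def]; group
        _ = ⁅a', a⁆ := by rw [hkc, mul_inv_cancel_right]
        _ = ⁅a, a'⁆ := by
          rw [← commutatorElement_inv, inv_eq_of_mul_eq_one_right (hsq _ (c.commutator_mem hT a a'))]
    by_contra hne
    have hn2 : (⁅a, a'⁆ : ↥W).1 ∉ Subgroup.upperCentralSeries T 2 := fun h' =>
      hne (by show (if _ then _ else _) = _; exact if_pos h')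
    refine hfix g hg _ (c.commutator_mem hT a a') hn2 ?_
    exact congrArg (fun v : ↥W => (v : T)) hk
  have hc_invol : ∀ g ∈ [gh, gs, gs * gh], (g : T ⧸ W) * g = 1 → cc (g : T ⧸ W) = 0 := by
    intro g hg hgg
    have h1 : B e (E (g : T ⧸ W)) = B e (act g e) := by
      rw [B_symm (E _) e, B_symm (act g e) e]
      refine B_congr _ _ _ (funext fun q => ?_)
      rw [hFE]
      show _ = c.F (MulAut.conjNormal g e) q
      rw [c.F_conj, he]
      exact if_congr (eq_comm.trans inv_mul_eq_one.symm) rfl rfl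
    exact h1.trans (hinvol g hg hgg e)
  have hch : cc h = 0 := hc_invol gh (by simp) hhh
  have hcs : cc s = 0 := hc_invol gs (by simp) hss
  have hcsh : cc (s * h) = 0 := by
    have e1 : ((gs * gh : T) : T ⧸ W) = s * h := rfl
    rw [← e1]
    refine hc_invol (gs * gh) (by simp) ?_
    rw [e1, mul_assoc, ← mul_assoc h, ← hsh, mul_assoc s, hhh, mul_one, hss]
  have hE1 : c.F (E 1) = c.F e := funext fun q => by rw [hFE, he]
  have hc1 : cc 1 = 0 := by
    show B e (E 1) = 0
    rw [B_symm (E 1) e, B_congr _ _ _ hE1]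
    show bit ⁅e, e⁆ = 0
    rw [commutatorElement_self, bit_one]
  have hc_inv : ∀ p, cc p⁻¹ = cc p := by
    intro p
    have h1 := hBE p 1
    rw [mul_one, B_symm (E 1) (E p), B_congr _ _ _ hE1] at h1
    exact h1.symm
  -- the central element
  have hyW : ∀ g, act g y * y⁻¹ ∈ frattini ↥W := by
    intro g
    rw [c.mem_frattini_iff]
    have := (Subgroup.mem_upperCentralSeries_succ_iff (n := 3)).1 hy4 g
    have h' : ((act g y * y⁻¹ : ↥W) : T) = (⁅(W.subtype y : T), g⁆)⁻¹ := by
      rw [commutatorElement_inv, commutatorElement_def]; rfl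
    rw [h']
    exact inv_mem this
  have hyconst : ∀ q, c.F y q = c.F y 1 := by
    intro q
    have h2 := (c.F_eq_zero_iff _).2 ((c.mem_frattini_iff _).1 (hyW q.out)) q
    rw [c.F_mul, c.F_inv, c.F_conj, QuotientGroup.out_eq', inv_mul_cancel] at h2
    revert h2
    generalize c.F y 1 = a
    generalize c.F y q = b
    revert a b
    decide
  have hy1 : ∀ q, c.F y q = 1 := by
    intro q
    rw [hyconst]
    by_contra hne
    refine hy3 ((c.F_eq_zero_iff y).1 fun q => ?_)
    rw [hyconst]
    revert hne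
    generalize c.F y 1 = a
    revert a
    decide
  have hsum : (cc 1 + cc r + cc h + cc (r * h)) +
      (cc s + cc (s * r) + cc (s * h) + cc (s * (r * h))) = 0 := by
    letI := Fintype.ofFinite (T ⧸ W)
    let ψ : ↥W → ZMod 2 := fun w => B e w + ∑ p, c.F w p * cc p
    have hψ : ψ y = 0 := by
      refine hzero ψ ?_ ?_ ?_ y
      · intro a b
        show B e (a * b) + _ = (B e a + _) + (B e b + _)
        rw [B_symm (a * b) e, B_mul, B_symm a e, B_symm b e]
        simp only [c.F_mul, add_mul, Finset.sum_add_distrib]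
        abel
      · intro a ha3
        show B e a + _ = 0
        rw [B_symm a e, B_zero a e ha3]
        simp [(c.F_eq_zero_iff a).2 ha3]
      · intro p
        show B e (E p) + _ = 0
        simp only [hFE, ite_mul, one_mul, zero_mul, Finset.sum_ite_eq', Finset.mem_univ, if_true]
        exact CharTwo.add_self_eq_zero _
    have hy0 : B e y = 0 := by
      show bit ⁅e, y⁆ = 0
      rw [commutatorElement_eq_one_iff_mul_comm.2 (hyc e), bit_one]
    simp only [ψ, hy0, hy1, one_mul, zero_add] at hψ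
    rw [← (Equiv.ofBijective f hfbij).sum_comp, Fintype.sum_prod_type, Fintype.sum_bool,
      Fin.sum_univ_four, Fin.sum_univ_four] at hψ
    have r2 : r ^ 2 = h := by rw [pow_two, hrr]
    have r3 : r ^ 3 = r * h := by rw [pow_succ', r2]
    simp only [Equiv.ofBijective_apply, f, Fin.val_zero, Fin.val_one, Fin.val_two,
      show ((3 : Fin 4) : ℕ) = 3 from rfl, pow_zero, pow_one, r2, r3, mul_one, one_mul, if_true,
      Bool.false_eq_true, if_false] at hψ
    rw [add_comm]
    exact hψ
  have hcr : cc (r * h) = cc r := by rw [← hrinv, hc_inv]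
  have hcsr : cc (s * (r * h)) = cc (s * r) := by
    rw [hc1, hch, hcs, hcsh, hcr] at hsum
    revert hsum
    generalize cc r = a
    generalize cc (s * r) = b
    generalize cc (s * (r * h)) = d
    revert a b d
    decide
  have hcper : ∀ p, cc (p * h) = cc p := by
    intro p
    obtain ⟨⟨b, i⟩, rfl⟩ := hfbij.2 p
    have r2 : r ^ 2 = h := by rw [pow_two, hrr]
    have r3 : r ^ 3 = r * h := by rw [pow_succ', r2]
    have e1 : r * h * h = r := by rw [mul_assoc, hhh, mul_one]
    cases b <;> fin_cases i <;>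
      simp [f, r2, r3, hhh, e1, hc1, hch, hcs, hcsh, hcr, hcsr, mul_assoc]
  -- elements `a * a ^ h`
  have hker : ∀ a x, B a x + B (act gh a) x = 0 := by
    have h1 : ∀ q a, B a (E q) + B (act gh a) (E q) = 0 := by
      intro q
      refine hzero (fun a => B a (E q) + B (act gh a) (E q)) ?_ ?_ ?_
      · intro a b
        simp only [map_mul, B_mul]
        abel
      · intro a ha3
        have hgha : ((act gh a : ↥W) : T) ∈ Subgroup.upperCentralSeries T 3 := by
          show gh * (a : T) * gh⁻¹ ∈ Subgroup.upperCentralSeries T 3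
          exact (inferInstance : (Subgroup.upperCentralSeries T 3).Normal).conj_mem _ ha3 gh
        rw [B_zero a _ ha3, B_zero _ _ hgha, add_zero]
      · intro p
        rw [B_congr _ _ _ (hactE gh p), hBE, hBE, mul_inv_rev, hhinv, mul_assoc p⁻¹,
          ← hcenh q, ← mul_assoc, hcper, CharTwo.add_self_eq_zero]
    intro a x
    refine hzero (fun x => B a x + B (act gh a) x) ?_ ?_ (fun q => h1 q a) x
    · intro u v
      rw [B_symm (u * v) a, B_symm (u * v) (act gh a), B_mul, B_mul, B_symm u a, B_symm v a,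
        B_symm u (act gh a), B_symm v (act gh a)]
      abel
    · intro k hk
      rw [B_symm k a, B_symm k (act gh a), B_zero k _ hk, B_zero k _ hk, add_zero]
  let σ : ↥W → ZMod 2 := fun w => bit (w * w)
  have σ_mul : ∀ a b, σ (a * b) = σ a + σ b + B a b := by
    intro a b
    show bit (a * b * (a * b)) = _
    have hsqm : ∀ w : ↥W, ((w * w : ↥W) : T) ∈ Subgroup.upperCentralSeries T 3 := fun w =>
      by rw [← pow_two]; exact c.sq_mem hT w
    have e1 : a * b * (a * b) = (a * a) * ⁅a⁻¹, b⁆ * (b * b) := by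
      rw [commutatorElement_def]; group
    have hm : ((a * a * ⁅a⁻¹, b⁆ : ↥W) : T) ∈ Subgroup.upperCentralSeries T 3 := by
      rw [coe_mul (G := T) W (a * a) ⁅a⁻¹, b⁆]
      exact mul_mem (hsqm a) (c.commutator_mem hT a⁻¹ b)
    rw [e1, bit_mul (a * a * ⁅a⁻¹, b⁆) (b * b) hm (hsqm b),
      bit_mul (a * a) ⁅a⁻¹, b⁆ (hsqm a) (c.commutator_mem hT a⁻¹ b)]
    have e2 : B a⁻¹ b = B a b := B_congr _ _ _ (funext fun q => c.F_inv a q)
    show bit (a * a) + B a⁻¹ b + bit (b * b) = σ a + σ b + B a b
    rw [e2]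
    ring
  -- a transversal for `h`
  obtain ⟨ι⟩ : Nonempty (T ⧸ W ≃ Fin 8) := ⟨c.card_Q ▸ Finite.equivFin (T ⧸ W)⟩
  let D : T ⧸ W → Prop := fun q => ι q < ι (h * q)
  have hhq : ∀ q, h * (h * q) = q := fun q => by rw [← mul_assoc, hhh, one_mul]
  have hD : ∀ q, D (h * q) ↔ ¬ D q := by
    intro q
    simp only [D, hhq, not_lt]
    refine ⟨le_of_lt, fun h' => lt_of_le_of_ne h' fun he => hh1 ?_⟩
    exact mul_eq_right.1 (ι.injective he)
  -- the subgroup of elements invariant modulo `Z_3` under `h`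
  let G : ↥W →* Multiplicative ({q // D q} → ZMod 2) :=
    MonoidHom.mk' (fun w => Multiplicative.ofAdd fun q => c.F w (h * q.1) + c.F w q.1) fun a b => by
      rw [← ofAdd_add]
      refine congrArg _ (funext fun q => ?_)
      simp only [c.F_mul, Pi.add_apply]
      abel
  have hG : ∀ w, w ∈ G.ker ↔ ∀ q, c.F w (h * q) = c.F w q := by
    intro w
    rw [MonoidHom.mem_ker]
    constructor
    · intro h0 q
      have key : ∀ q, D q → c.F w (h * q) = c.F w q := fun q hq =>
        CharTwo.add_eq_zero.1 (congrFun (congrArg Multiplicative.toAdd h0) ⟨q, hq⟩)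
      by_cases hq : D q
      · exact key q hq
      · have := key (h * q) ((hD q).2 hq)
        rw [hhq] at this
        exact this.symm
    · intro h0
      refine congrArg Multiplicative.ofAdd (funext fun q => ?_)
      show _ + _ = (0 : ZMod 2)
      rw [h0, CharTwo.add_self_eq_zero]
  have hS : ∀ w ∈ G.ker, σ w = 0 ∧ ∀ x, B w x = 0 := by
    intro w hw
    rw [hG] at hw
    obtain ⟨a, haF⟩ := c.F_surj (fun q => if D q then c.F w q else 0)
    have hFa : c.F (a * act gh a) = c.F w := funext fun q => by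
      rw [c.F_mul]
      show c.F a q + c.F (MulAut.conjNormal gh a) q = _
      rw [c.F_conj, haF]
      show (if D q then c.F w q else 0) + (if D (h⁻¹ * q) then c.F w (h⁻¹ * q) else 0) = _
      simp only [hhinv, hD, hw]
      by_cases hq : D q <;> simp [hq]
    have hB : ∀ x, B w x = 0 := fun x => by
      rw [← B_congr _ _ _ hFa, B_mul]; exact hker a x
    refine ⟨?_, hB⟩
    have hk := c.inv_mul_mem_of_F_eq _ _ hFa
    have e1 : σ ((a * act gh a) * ((a * act gh a)⁻¹ * w)) = 0 := by
      rw [σ_mul (a * act gh a), σ_mul a, B_symm _ (a * act gh a), B_zero _ _ hk]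
      have e2 : σ (act gh a) = σ a := by
        show bit (act gh a * act gh a) = bit (a * a)
        rw [← map_mul, bit_act]
      have e3 : σ ((a * act gh a)⁻¹ * w) = 0 := by
        show bit (_ * _) = 0
        rw [hsq _ hk, bit_one]
      have e4 : B a (act gh a) = 0 := hinvol gh (by simp) hhh a
      rw [e2, e3, e4, CharTwo.add_self_eq_zero, add_zero, add_zero, add_zero]
    rwa [mul_inv_cancel_left] at e1
  -- an element outside with square in `Z_2`
  have hs1 : s ≠ 1 := fun h' => hns (h' ▸ one_mem _)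
  have hsh' : s ≠ h := fun h' => hns (h' ▸ hrr ▸ mul_mem (mem_zpowers r) (mem_zpowers r))
  have hFe : ∀ q, c.F e q = if q = 1 then 1 else 0 := fun q => congrFun he q
  obtain ⟨x, hx, hσx⟩ : ∃ x, x ∉ G.ker ∧ σ x = 0 := by
    have he' : e ∉ G.ker := fun h' => by
      have := (hG e).1 h' 1
      rw [mul_one, hFe, hFe, if_neg hh1, if_pos rfl] at this
      exact zero_ne_one this
    by_cases h0 : σ e = 0
    · exact ⟨e, he', h0⟩
    have hEs : E s ∉ G.ker := fun h' => by
      have := (hG _).1 h' s
      rw [hFE, hFE, if_pos rfl, if_neg (fun h2 => hh1 (mul_eq_right.1 h2))] at this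
      exact zero_ne_one this
    by_cases h1 : σ (E s) = 0
    · exact ⟨E s, hEs, h1⟩
    refine ⟨e * E s, fun h' => ?_, ?_⟩
    · have := (hG _).1 h' 1
      rw [mul_one, c.F_mul, c.F_mul, hFE, hFE, hFe, hFe, if_neg hh1, if_pos rfl,
        if_neg hsh'.symm, if_neg hs1.symm] at this
      simp at this
    · rw [σ_mul, show B e (E s) = 0 from hcs]
      rcases zadd_cases (σ e) 0 with ha' | ha'
      · exact absurd ha' h0
      rcases zadd_cases (σ (E s)) 0 with hb' | hb'
      · exact absurd hb' h1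
      rw [ha', hb']
      rfl
  have hGx2 : x * x ∈ G.ker := by
    rw [hG]
    intro q
    rw [c.F_mul, c.F_mul, CharTwo.add_self_eq_zero, CharTwo.add_self_eq_zero]
  let U : Subgroup ↥W :=
    { carrier := {w | w ∈ G.ker ∨ x⁻¹ * w ∈ G.ker}
      one_mem' := Or.inl (one_mem _)
      mul_mem' := fun {a b} ha' hb' => by
        have hn : G.ker.Normal := inferInstance
        rcases ha' with ha' | ha' <;> rcases hb' with hb' | hb'
        · exact Or.inl (mul_mem ha' hb')
        · refine Or.inr ?_
          have h1 := mul_mem (hn.conj_mem a ha' x⁻¹) hb'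
          have e1 : x⁻¹ * a * x⁻¹⁻¹ * (x⁻¹ * b) = x⁻¹ * (a * b) := by group
          exact e1 ▸ h1
        · refine Or.inr ?_
          rw [← mul_assoc]
          exact mul_mem ha' hb'
        · refine Or.inl ?_
          have h1 := mul_mem (mul_mem hGx2 (hn.conj_mem _ ha' x⁻¹)) hb'
          have e1 : x * x * (x⁻¹ * (x⁻¹ * a) * x⁻¹⁻¹) * (x⁻¹ * b) = a * b := by group
          exact e1 ▸ h1
      inv_mem' := fun {a} ha' => by
        have hn : G.ker.Normal := inferInstance
        rcases ha' with ha' | ha'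
        · exact Or.inl (inv_mem ha')
        · refine Or.inr ?_
          have h1 := mul_mem (hn.conj_mem _ (inv_mem ha') x⁻¹) (inv_mem hGx2)
          have e1 : x⁻¹ * (x⁻¹ * a)⁻¹ * x⁻¹⁻¹ * (x * x)⁻¹ = x⁻¹ * a⁻¹ := by group
          exact e1 ▸ h1 }
  have hUprops : ∀ u ∈ U, σ u = 0 ∧ ∀ v ∈ U, B u v = 0 := by
    have hUform : ∀ u ∈ U, σ u = 0 ∧ (∀ v, B u v = 0 ∨ B u v = B x v) := by
      rintro u (hu | hu)
      · exact ⟨(hS u hu).1, fun v => Or.inl ((hS u hu).2 v)⟩
      · obtain ⟨hσ, hB⟩ := hS _ hu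
        have e1 : u = x * (x⁻¹ * u) := (mul_inv_cancel_left x u).symm
        refine ⟨?_, fun v => Or.inr ?_⟩
        · rw [e1, σ_mul, hσx, hσ, B_symm _ x, hB x, add_zero, add_zero]
        · rw [e1, B_mul, hB v, add_zero]
    intro u hu
    refine ⟨(hUform u hu).1, fun v hv => ?_⟩
    rcases (hUform u hu).2 v with h' | h'
    · exact h'
    rw [h', B_symm v x]
    rcases (hUform v hv).2 x with h'' | h''
    · exact h''
    rw [h'']
    show bit ⁅x, x⁆ = 0
    rw [commutatorElement_self, bit_one]
  have hbit : ∀ w : ↥W, bit w = 0 → (w : T) ∈ Subgroup.upperCentralSeries T 2 := by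
    intro w hw
    by_contra h'
    have : bit w = 1 := if_neg h'
    exact zero_ne_one (hw.symm.trans this)
  refine c.frattini_not_small hT ha hb hd U ?_ (fun u hu => ?_) fun u hu v hv =>
    hbit _ ((hUprops u hu).2 v hv)
  · have hindex : G.ker.index ≤ 16 := by
      rw [index_ker]
      refine (card_le_card_group _).trans ?_
      rw [Nat.card_congr Multiplicative.toAdd, Nat.card_fun, Nat.card_zmod]
      have hD4 : Nat.card {q // D q} ≤ 4 := by
        let g2 : Bool × {q // D q} → T ⧸ W := fun p => if p.1 then h * p.2.1 else p.2.1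
        have : Function.Injective g2 := by
          rintro ⟨_ | _, p⟩ ⟨_ | _, q⟩ h' <;>
            simp only [g2, Bool.false_eq_true, if_true, if_false, mul_right_inj] at h'
          · rw [Subtype.ext h']
          · exact absurd (h' ▸ p.2) (fun h'' => (hD q.1).1 h'' q.2)
          · exact absurd (h'.symm ▸ q.2) (fun h'' => (hD p.1).1 h'' p.2)
          · rw [Subtype.ext h']
        have := Nat.card_le_card_of_injective g2 this
        rw [Nat.card_prod, c.card_Q, Nat.card_eq_fintype_card, Fintype.card_bool] at this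
        omega
      calc 2 ^ Nat.card {q // D q} ≤ 2 ^ 4 := Nat.pow_le_pow_right (by norm_num) hD4
        _ = 16 := rfl
    have hle : G.ker ≤ U := fun w hw => Or.inl hw
    have hmul := relIndex_mul_index hle
    have hne : G.ker.relIndex U ≠ 1 := fun h' =>
      hx (relIndex_eq_one.1 h' (Or.inr (by rw [inv_mul_cancel]; exact one_mem _) : x ∈ U))
    have h0 : G.ker.relIndex U ≠ 0 := fun h' => by
      rw [h', zero_mul] at hmul
      exact index_ne_zero_of_finite hmul.symm
    have : 2 * U.index ≤ G.ker.index := by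
      rw [← hmul]; exact Nat.mul_le_mul_right _ (by omega)
    omega
  · rw [pow_two]
    exact hbit _ (hUprops u hu).1

end Core

end Cfsg.Agent.Lib.H59.Rud
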